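import Mathlib
import Groth.Agent.ModDesc.BaseChange
import Groth.Agent.QC.Coherent

/-!
# Descent of finiteness properties of modules along finite faithfully flat families
-/

set_option autoImplicit false
universe u

open CategoryTheory AlgebraicGeometry TensorProduct

namespace Groth.Agent.QCDescent

theorem flat_pi {R : Type u} [CommRing R] {ι : Type*} [Fintype ι] (B : ι → Type*) [∀ i, AddCommGroup (B i)]
    [∀ i, Module R (B i)] [∀ i, Module.Flat R (B i)] : Module.Flat R (∀ i, B i) := by
  classical
  exact Module.Flat.of_linearEquiv (DirectSum.linearEquivFunOnFintype R ι B).symm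

theorem finite_pi_tensor {R : Type u} [CommRing R] {ι : Type*} [Fintype ι] (B : ι → Type u) [∀ i, CommRing (B i)]
    [∀ i, Algebra R (B i)] (M : Type u) [AddCommGroup M] [Module R M]
    (h : ∀ i, Module.Finite (B i) (B i ⊗[R] M)) : Module.Finite (∀ i, B i) ((∀ i, B i) ⊗[R] M) := by
  classical
  have hT : ∀ i, ∃ T : Finset M, Submodule.span (B i) ((fun m => (1 : B i) ⊗ₜ[R] m) '' (T : Set M)) = ⊤ := by
    intro i
    obtain ⟨G, hG⟩ := (h i).fg_top
    have hz : ∀ z : B i ⊗[R] M, ∃ T : Finset M, z ∈ Submodule.span (B i) ((fun m => (1 : B i) ⊗ₜ[R] m) '' (T : Set M)) := by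
      intro z
      induction z using TensorProduct.induction_on with
      | zero => exact ⟨∅, zero_mem _⟩
      | tmul b m =>
        refine ⟨{m}, ?_⟩
        rw [show b ⊗ₜ[R] m = b • ((1 : B i) ⊗ₜ[R] m) by rw [TensorProduct.smul_tmul', smul_eq_mul, mul_one]]
        exact Submodule.smul_mem _ _ (Submodule.subset_span ⟨m, by simp, rfl⟩)
      | add x y hx hy =>
        obtain ⟨Tx, hTx⟩ := hx
        obtain ⟨Ty, hTy⟩ := hy
        exact ⟨Tx ∪ Ty, add_mem (Submodule.span_mono (Set.image_mono (by simp)) hTx)
          (Submodule.span_mono (Set.image_mono (by simp)) hTy)⟩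
    choose T hT using hz
    refine ⟨G.biUnion T, top_le_iff.mp (hG.ge.trans (Submodule.span_le.mpr fun z hz => ?_))⟩
    exact Submodule.span_mono (Set.image_mono (by exact_mod_cast Finset.subset_biUnion_of_mem T hz)) (hT z)
  choose T hT using hT
  let U := Finset.univ.biUnion T
  refine ⟨⟨U.image fun m => (1 : ∀ i, B i) ⊗ₜ[R] m, top_le_iff.mp fun z _ => ?_⟩⟩
  let N := Submodule.span (∀ i, B i) ((U.image fun m => (1 : ∀ i, B i) ⊗ₜ[R] m : Finset _) : Set ((∀ i, B i) ⊗[R] M))
  have key : ∀ (i : ι) (y : B i ⊗[R] M), (LinearMap.single R B i).rTensor M y ∈ N := by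
    intro i y
    have hl : ∀ (b : B i) (x : B i ⊗[R] M), (LinearMap.single R B i).rTensor M (b • x) =
        (Pi.single i b : ∀ i, B i) • (LinearMap.single R B i).rTensor M x := fun b x => by
      induction x using TensorProduct.induction_on with
      | zero => simp
      | tmul c m =>
        simp only [TensorProduct.smul_tmul', smul_eq_mul, LinearMap.rTensor_tmul, LinearMap.coe_single, ← Pi.single_mul]
      | add x y hx hy => rw [smul_add, map_add, map_add, hx, hy, smul_add]
    have hy : y ∈ Submodule.span (B i) ((fun m => (1 : B i) ⊗ₜ[R] m) '' (T i : Set M)) := by rw [hT i]; trivial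
    induction hy using Submodule.span_induction with
    | mem x hx =>
      obtain ⟨m, hm, rfl⟩ := hx
      rw [LinearMap.rTensor_tmul, show (LinearMap.single R B i 1) ⊗ₜ[R] m =
        (Pi.single i (1 : B i) : ∀ i, B i) • ((1 : ∀ i, B i) ⊗ₜ[R] m) by
          rw [TensorProduct.smul_tmul', smul_eq_mul, mul_one]; rfl]
      exact N.smul_mem _ (Submodule.subset_span (Finset.mem_coe.mpr (Finset.mem_image.mpr
        ⟨m, Finset.mem_biUnion.mpr ⟨i, Finset.mem_univ _, hm⟩, rfl⟩)))
    | zero => simp
    | add x y _ _ hx hy => rw [map_add]; exact add_mem hx hy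
    | smul b x _ hx =>
      have this := hl b x
      rw [this]
      exact N.smul_mem _ hx
  induction z using TensorProduct.induction_on with
  | zero => exact zero_mem _
  | tmul s m =>
    rw [show s ⊗ₜ[R] m = ∑ i, (LinearMap.single R B i).rTensor M (s i ⊗ₜ[R] m) by
      simp only [LinearMap.rTensor_tmul, LinearMap.coe_single, ← TensorProduct.sum_tmul, Finset.univ_sum_single]]
    exact Submodule.sum_mem _ fun i _ => key i _
  | add x y hx hy => exact add_mem (hx trivial) (hy trivial)

/-- Finite presentation descends along a finite family which is jointly faithfully flat. -/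
theorem finitePresentation_of_pi {R : Type u} [CommRing R] {ι : Type*} [Fintype ι] (B : ι → Type u)
    [∀ i, CommRing (B i)] [∀ i, Algebra R (B i)] [Module.FaithfullyFlat R (∀ i, B i)]
    [∀ i, Module.Flat R (B i)] (M : Type u) [AddCommGroup M] [Module R M]
    (h : ∀ i, Module.Finite (B i) (B i ⊗[R] M)) (hp : ∀ i, Module.FinitePresentation (B i) (B i ⊗[R] M)) :
    Module.FinitePresentation R M := by
  haveI := finite_pi_tensor B M h
  haveI : Module.Finite R M := Module.Finite.of_finite_tensorProduct_of_faithfullyFlat (∀ i, B i)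
  obtain ⟨n, π, hπ⟩ := Module.Finite.exists_fin' R M
  haveI hK : ∀ i, Module.Finite (B i) (B i ⊗[R] LinearMap.ker π) := by
    intro i
    haveI := hp i
    let g := π.baseChange (B i)
    have hg : Function.Surjective g := LinearMap.lTensor_surjective _ hπ
    let k := (LinearMap.ker π).subtype.baseChange (B i)
    have hk : Function.Injective k := Module.Flat.lTensor_preserves_injective_linearMap _ Subtype.val_injective
    have hex : LinearMap.range k = LinearMap.ker g := by
      ext x
      exact ((Module.Flat.lTensor_exact (M := B i) (LinearMap.exact_subtype_ker_map π)) x).symm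
    haveI : Module.Finite (B i) (LinearMap.ker g) :=
      Module.Finite.iff_fg.mpr (Module.FinitePresentation.fg_ker g hg)
    exact Module.Finite.equiv ((LinearEquiv.ofInjective k hk).trans (LinearEquiv.ofEq _ _ hex)).symm
  haveI := finite_pi_tensor B (LinearMap.ker π) hK
  haveI : Module.Finite R (LinearMap.ker π) := Module.Finite.of_finite_tensorProduct_of_faithfullyFlat (∀ i, B i)
  exact Module.finitePresentation_of_surjective π hπ (Module.Finite.iff_fg.mp inferInstance)

/-- Flatness descends along a faithfully flat algebra. -/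
theorem flat_of_tensor {R S : Type u} [CommRing R] [CommRing S] [Algebra R S] [Module.FaithfullyFlat R S]
    (M : Type u) [AddCommGroup M] [Module R M] [Module.Flat R (S ⊗[R] M)] : Module.Flat R M := by
  rw [Module.Flat.iff_rTensor_injective']
  intro I
  rw [← Module.FaithfullyFlat.lTensor_injective_iff_injective R S]
  have h := Module.Flat.rTensor_preserves_injective_linearMap (M := S ⊗[R] M) I.subtype Subtype.val_injective
  have hc : (TensorProduct.leftComm R S R M).toLinearMap ∘ₗ (I.subtype.rTensor M).lTensor S =
      I.subtype.rTensor (S ⊗[R] M) ∘ₗ (TensorProduct.leftComm R S I M).toLinearMap := by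
    ext s i m
    rfl
  have : Function.Injective ((TensorProduct.leftComm R S R M) ∘ (I.subtype.rTensor M).lTensor S) := by
    have h2 := h.comp (TensorProduct.leftComm R S I M).injective
    intro x y hxy
    exact h2 ((LinearMap.congr_fun hc x).symm.trans (hxy.trans (LinearMap.congr_fun hc y)))
  exact this.of_comp

/-- Flatness descends along a finite family which is jointly faithfully flat. -/
theorem flat_of_pi {R : Type u} [CommRing R] {ι : Type u} [Fintype ι] [DecidableEq ι] (B : ι → Type u)
    [∀ i, CommRing (B i)] [∀ i, Algebra R (B i)] [Module.FaithfullyFlat R (∀ i, B i)]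
    [∀ i, Module.Flat R (B i)] (M : Type u) [AddCommGroup M] [Module R M]
    (h : ∀ i, Module.Flat (B i) (B i ⊗[R] M)) : Module.Flat R M := by
  haveI : ∀ i, Module.Flat R (B i ⊗[R] M) := fun i => by
    haveI := h i
    exact Module.Flat.trans R (B i) _
  haveI := flat_pi (R := R) (fun i => B i ⊗[R] M)
  haveI : Module.Flat R ((∀ i, B i) ⊗[R] M) :=
    Module.Flat.of_linearEquiv ((TensorProduct.comm R (∀ i, B i) M).trans ((TensorProduct.piRight R R M B).trans
      (LinearEquiv.piCongrRight fun i => TensorProduct.comm R M (B i))))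
  exact flat_of_tensor (S := ∀ i, B i) M

end Groth.Agent.QCDescent
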