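import Groth.Agent.QCDescent.Basic

/-!
# Finite faithfully flat families over an affine open of the base of an fpqc morphism
-/

set_option autoImplicit false
universe u

open CategoryTheory AlgebraicGeometry TensorProduct

namespace Groth.Agent.QCDescent

variable {X X' : Scheme.{u}} (f : X' ⟶ X) [Flat f] [Surjective f] [QuasiCompact f]

theorem exists_pieces (U : X.affineOpens) :
    ∃ (ι : Type u) (_ : Fintype ι) (W : ι → X'.affineOpens) (e : ∀ i, (W i).1 ≤ f ⁻¹ᵁ U.1),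
      letI : ∀ i, Algebra Γ(X, U.1) Γ(X', (W i).1) := fun i => (f.appLE U.1 (W i).1 (e i)).hom.toAlgebra
      (∀ i, Module.Flat Γ(X, U.1) Γ(X', (W i).1)) ∧ Module.FaithfullyFlat Γ(X, U.1) (∀ i, Γ(X', (W i).1)) := by
  classical
  have hcpt : IsCompact ((f ⁻¹ᵁ U.1 : X'.Opens) : Set X') := QuasiCompact.isCompact_preimage _ U.1.2 U.2.isCompact
  obtain ⟨t, ht⟩ := hcpt.elim_finite_subcover
    (fun W : {W : X'.affineOpens // W.1 ≤ f ⁻¹ᵁ U.1} => (W.1.1 : Set X')) (fun W => W.1.1.2) (fun x hx => by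
      obtain ⟨W, hW, hxW, hWU⟩ := exists_isAffineOpen_mem_and_subset (X := X') (x := x) (U := f ⁻¹ᵁ U.1) hx
      exact Set.mem_iUnion.mpr ⟨⟨⟨W, hW⟩, hWU⟩, hxW⟩)
  let B : t → Type u := fun W => Γ(X', W.1.1.1)
  letI : ∀ W : t, Algebra Γ(X, U.1) (B W) := fun W => (f.appLE U.1 W.1.1.1 W.1.2).hom.toAlgebra
  have hflat : ∀ W : t, Module.Flat Γ(X, U.1) (B W) := fun W => Flat.flat_appLE f U.2 W.1.1.2 W.1.2
  refine ⟨t, inferInstance, fun W => W.1.1, fun W => W.1.2, hflat, ?_⟩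
  haveI : Module.Flat Γ(X, U.1) (∀ W, B W) := by haveI := hflat; exact flat_pi B
  refine Module.FaithfullyFlat.of_comap_surjective fun p => ?_
  obtain ⟨x', hx'⟩ := f.surjective (U.2.fromSpec p)
  have hpU : U.2.fromSpec p ∈ U.1 := by
    have : U.2.fromSpec p ∈ Set.range U.2.fromSpec := ⟨p, rfl⟩
    rwa [U.2.range_fromSpec] at this
  have hxU : x' ∈ f ⁻¹ᵁ U.1 := by
    show f x' ∈ U.1
    rw [hx']; exact hpU
  obtain ⟨W, hWt, hxW⟩ := Set.mem_iUnion₂.mp (ht hxU)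
  let Q := W.1.2.primeIdealOf ⟨x', hxW⟩
  refine ⟨PrimeSpectrum.comap (Pi.evalRingHom B ⟨W, hWt⟩) Q, ?_⟩
  rw [← PrimeSpectrum.comap_comp_apply]
  change PrimeSpectrum.comap (f.appLE U.1 W.1.1 W.2).hom Q = p
  rw [IsAffineOpen.comap_primeIdealOf_appLE (f := f) U.1 U.2 W.1.1 W.1.2 W.2 hxW]
  apply U.2.fromSpec.isOpenEmbedding.injective
  rw [U.2.fromSpec_primeIdealOf]
  exact hx'

end Groth.Agent.QCDescent
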